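import Mathlib
import Groth.Agent.EtaleSplit.Nbhd
import Groth.Agent.QuotLib.Free

set_option autoImplicit false
set_option backward.isDefEq.respectTransparency false
set_option backward.defeqAttrib.useBackward true
set_option linter.style.haveILetI false

/-!
# Étale neighbourhoods on which an unramified morphism splits into closed immersions
-/

open AlgebraicGeometry CategoryTheory Limits Topology

universe u

namespace Groth.Agent.EtLocalLib

open Groth.Agent.EtaleSplit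

variable {Ω : Type u} [Field Ω] [IsAlgClosed Ω]

theorem lqf_of_unramified {X Y : Scheme.{u}} (f : X ⟶ Y) [FormallyUnramified f]
    [LocallyOfFiniteType f] : LocallyQuasiFinite f := by
  rw [HasRingHomProperty.iff_appLE (P := @LocallyQuasiFinite)]
  intro U V e
  algebraize [(f.appLE U V e).hom]
  haveI : Algebra.FormallyUnramified Γ(Y, U) Γ(X, V) :=
    RingHom.formallyUnramified_algebraMap.mp (f.formallyUnramified_appLE U.2 V.2 e)
  haveI : Algebra.FiniteType Γ(Y, U) Γ(X, V) :=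
    RingHom.finiteType_algebraMap.mp (f.finiteType_appLE U.2 V.2 e)
  exact RingHom.quasiFinite_algebraMap.mpr inferInstance

theorem exists_point_of_isPullback {P X Y Z : Scheme.{u}} {fst : P ⟶ X} {snd : P ⟶ Y} {f : X ⟶ Z}
    {g : Y ⟶ Z} (h : IsPullback fst snd f g) (x : X) (y : Y) (hxy : f x = g y) :
    ∃ p : P, fst p = x ∧ snd p = y := by
  obtain ⟨z, hz1, hz2⟩ := Scheme.Pullback.exists_preimage_pullback x y hxy
  refine ⟨h.isoPullback.inv z, ?_, ?_⟩
  · rw [← Scheme.Hom.comp_apply, h.isoPullback_inv_fst, hz1]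
  · rw [← Scheme.Hom.comp_apply, h.isoPullback_inv_snd, hz2]

/-- A finite unramified morphism with one geometric point over `qT` is, near `pt qT`, a closed
immersion, and an isomorphism if it is étale. -/
theorem exists_good_nbhd {Y T : Scheme.{u}} (h : Y ⟶ T) [IsFinite h] [FormallyUnramified h]
    (qT : Spec (.of Ω) ⟶ T) (huniq : ∀ r r' : GPts h qT, r.1 = r'.1)
    (hmem : ∃ y, h y = pt qT) :
    ∃ N : T.Opens, pt qT ∈ N ∧ ∀ {Y' T' : Scheme.{u}} (k : T' ⟶ T) (m : Y' ⟶ Y) (h' : Y' ⟶ T'),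
      IsPullback m h' h k → Set.range k ⊆ (N : Set T) →
        IsClosedImmersion h' ∧ (Etale h → IsIso h') := by
  classical
  let h2 : pullback h h ⟶ T := pullback.fst h h ≫ h
  let C : Set T := h2 '' (Set.range (pullback.diagonal h))ᶜ
  have hC : IsClosed C :=
    h2.isClosedMap _ (pullback.diagonal h).isOpenEmbedding.isOpen_range.isClosed_compl
  have huC : pt qT ∉ C := by
    rintro ⟨z, hz, hzu⟩
    obtain ⟨r, hr⟩ := exists_gpt h2 qT z hzu
    refine hz ⟨pt (r.1 ≫ pullback.fst h h), ?_⟩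
    have heq : r.1 ≫ pullback.fst h h = r.1 ≫ pullback.snd h h :=
      huniq ⟨r.1 ≫ pullback.fst h h, by rw [Category.assoc]; exact r.2⟩
        ⟨r.1 ≫ pullback.snd h h, by rw [Category.assoc, ← pullback.condition]; exact r.2⟩
    have hrd : (r.1 ≫ pullback.fst h h) ≫ pullback.diagonal h = r.1 := by
      apply pullback.hom_ext
      · simp
      · simp [heq]
    rw [← pt_comp, hrd, hr]
  let E : Set T := if Etale h then interior (Set.range h) else Set.univ
  have hE : IsOpen E := by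
    simp only [E]; split_ifs
    · exact isOpen_interior
    · exact isOpen_univ
  have huE : pt qT ∈ E := by
    simp only [E]; split_ifs with he
    · rw [h.isOpenMap.isOpen_range.interior_eq]
      exact hmem
    · exact trivial
  refine ⟨⟨Cᶜ ∩ E, hC.isOpen_compl.inter hE⟩, ⟨huC, huE⟩, fun {Y' T'} k m h' hc hk => ?_⟩
  haveI : IsFinite h' := MorphismProperty.of_isPullback hc ‹_›
  haveI : Mono h' := by
    refine ⟨fun {W} a b hab => hc.hom_ext ?_ hab⟩
    have hw : (a ≫ m) ≫ h = (b ≫ m) ≫ h := by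
      rw [Category.assoc, Category.assoc, hc.w, reassoc_of% hab]
    have hrange : Set.range (pullback.lift (a ≫ m) (b ≫ m) hw) ⊆
        Set.range (pullback.diagonal h) := by
      rintro _ ⟨w, rfl⟩
      by_contra hn
      have hN := hk (Set.mem_range_self (h' (a w)))
      refine hN.1 ⟨_, hn, ?_⟩
      have e1 : pullback.lift (a ≫ m) (b ≫ m) hw ≫ h2 = (a ≫ h') ≫ k := by
        show pullback.lift (a ≫ m) (b ≫ m) hw ≫ pullback.fst h h ≫ h = _
        rw [pullback.lift_fst_assoc, Category.assoc, hc.w, Category.assoc]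
      exact congr($(e1) w)
    have hl := IsOpenImmersion.lift_fac (pullback.diagonal h) _ hrange
    have h1 := congrArg (· ≫ pullback.fst h h) hl
    have h3 := congrArg (· ≫ pullback.snd h h) hl
    simp only [Category.assoc, pullback.diagonal_fst, pullback.diagonal_snd, Category.comp_id,
      pullback.lift_fst, pullback.lift_snd] at h1 h3
    exact h1.symm.trans h3
  refine ⟨(IsClosedImmersion.iff_isFinite_and_mono h').2 ⟨inferInstance, inferInstance⟩, fun he => ?_⟩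
  haveI : Etale h' := MorphismProperty.of_isPullback hc he
  haveI : IsOpenImmersion h' := IsOpenImmersion.of_flat_of_mono h'
  haveI : Surjective h' := ⟨fun t => by
    have hN := (hk (Set.mem_range_self t)).2
    simp only [E, if_pos he] at hN
    obtain ⟨y, hy⟩ := interior_subset hN
    obtain ⟨p, -, hp⟩ := exists_point_of_isPullback hc y t hy
    exact ⟨p, hp⟩⟩
  exact (isIso_iff_isOpenImmersion_and_surjective h').2 ⟨inferInstance, inferInstance⟩

/-- The common output of the local structure theorems: all `V k` are closed immersions near `u`. -/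
structure Nbhd {X S : Scheme.{u}} (f : X ⟶ S) (s : S) {ι : Type} (x : ι → X) where
  U : Scheme.{u}
  g : U ⟶ S
  u : U
  etale : Etale g
  over' : g u = s
  K : Type
  finite : Finite K
  lab : K → ι
  V : K → (pullback f g).Opens
  closed : ∀ k, IsClosedImmersion ((V k).ι ≫ pullback.snd f g)
  hit : ∀ k, ∃ w : ↑(pullback f g), w ∈ V k ∧ pullback.snd f g w = u
  inj : ∀ (k k' : K) (w : ↑(pullback f g)), w ∈ V k → w ∈ V k' → pullback.snd f g w = u → k = k'
  cover : ∀ (w : ↑(pullback f g)) (i : ι), pullback.snd f g w = u → pullback.fst f g w = x i →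
    ∃ k, lab k = i ∧ w ∈ V k

/-- All `V k` are isomorphisms. -/
def Nbhd.AllIso {X S : Scheme.{u}} {f : X ⟶ S} {s : S} {ι : Type} {x : ι → X} (N : Nbhd f s x) :
    Prop :=
  ∀ k, IsIso ((N.V k).ι ≫ pullback.snd f N.g)

/-- The locally of finite type, unramified case. -/
theorem exists_nbhd_unramified {X S : Scheme.{u}} (f : X ⟶ S) [LocallyOfFiniteType f]
    [FormallyUnramified f] (s : S) {ι : Type} [Finite ι] (x : ι → X) (hinj : Function.Injective x)
    (hs : ∀ i, f (x i) = s) : ∃ N : Nbhd f s x, Etale f → N.AllIso := by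
  classical
  obtain ⟨Ω, _, _, q, hq⟩ := Groth.Agent.QuotLib.exists_geom_point s
  haveI := lqf_of_unramified f
  haveI : ∀ i, Finite {r : GPts f q // pt r.1 = x i} := fun i =>
    finite_gpts_at f q (x i) ((hs i).trans hq.symm) (f.quasiFiniteAt _)
  obtain ⟨n, ⟨e⟩⟩ := Finite.exists_equiv_fin (Σ i, {r : GPts f q // pt r.1 = x i})
  let p : Fin n → GPts f q := fun k => (e.symm k).2.1
  have hpinj : Function.Injective p := fun a b hab => by
    refine e.symm.injective (Sigma.subtype_ext (hinj ?_) hab)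
    rw [← (e.symm a).2.2, ← (e.symm b).2.2]
    exact congrArg (fun r => pt r.1) hab
  obtain ⟨T, g, qT, hqT, V, hg, hV⟩ :=
    exists_split f q p (fun _ => ⊤) (fun _ => trivial) (fun k => f.quasiFiniteAt _)
  haveI := hg
  haveI := fun k => (hV k).1
  haveI : FormallyUnramified (pullback.snd f g) := MorphismProperty.pullback_snd f g inferInstance
  haveI : ∀ k, FormallyUnramified ((V k).ι ≫ pullback.snd f g) := fun k =>
    MorphismProperty.comp_mem _ _ _ inferInstance inferInstance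
  have huniq : ∀ k, ∀ r r' : GPts ((V k).ι ≫ pullback.snd f g) qT, r.1 = r'.1 := by
    intro k r r'
    have h1 : ∀ r : GPts ((V k).ι ≫ pullback.snd f g) qT, r.1 ≫ (V k).ι =
        pullback.lift (p k).1 qT ((p k).2.trans hqT.symm) := fun r =>
      (hV k).2.2.2 ⟨r.1 ≫ (V k).ι, by rw [Category.assoc]; exact r.2⟩ ((V k).ι_apply _ ▸ ((r.1) (IsLocalRing.closedPoint Ω)).2)
    exact (cancel_mono (V k).ι).1 ((h1 r).trans (h1 r').symm)
  have hhit : ∀ k, ∃ y, ((V k).ι ≫ pullback.snd f g) y = pt qT := fun k => by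
    refine ⟨⟨_, (hV k).2.2.1⟩, ?_⟩
    show pullback.snd f g (pt _) = _
    rw [← pt_comp, pullback.lift_snd]
  choose N hNu hN using fun k => exists_good_nbhd ((V k).ι ≫ pullback.snd f g) qT (huniq k) (hhit k)
  let N₀ : T.Opens := ⟨⋂ k, (N k : Set T), isOpen_iInter_of_finite fun k => (N k).2⟩
  have hN₀u : pt qT ∈ N₀ := Set.mem_iInter.2 hNu
  let m := pullback.map f (N₀.ι ≫ g) f g (𝟙 X) N₀.ι (𝟙 S) (by simp) (by simp)
  have hm : IsPullback m (pullback.snd f (N₀.ι ≫ g)) (pullback.snd f g) N₀.ι :=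
    isPullback_pullbackMap f g (N₀.ι ≫ g) N₀.ι rfl
  have hmfst : m ≫ pullback.fst f g = pullback.fst f (N₀.ι ≫ g) := by simp [m]
  have hpb : ∀ k, IsPullback (m ∣_ V k) ((m ⁻¹ᵁ V k).ι ≫ pullback.snd f (N₀.ι ≫ g))
      ((V k).ι ≫ pullback.snd f g) N₀.ι :=
    fun k => (isPullback_morphismRestrict m (V k)).paste_vert hm
  have hrange : ∀ k, Set.range N₀.ι ⊆ (N k : Set T) := fun k => by
    rw [Scheme.Opens.range_ι]; exact Set.iInter_subset _ k
  have hg' : (N₀.ι ≫ g) ⟨pt qT, hN₀u⟩ = s := by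
    show g (pt qT) = s
    rw [← pt_comp, hqT]; exact hq
  have hwu : ∀ w, pullback.snd f (N₀.ι ≫ g) w = ⟨pt qT, hN₀u⟩ →
      pullback.snd f g (m w) = pt qT := fun w hw => by
    rw [← Scheme.Hom.comp_apply, hm.w, Scheme.Hom.comp_apply, hw]; rfl
  refine ⟨⟨N₀.toScheme, N₀.ι ≫ g, ⟨pt qT, hN₀u⟩, inferInstance, hg', Fin n, inferInstance,
    fun k => (e.symm k).1, fun k => m ⁻¹ᵁ V k, fun k => ?_, fun k => ?_, ?_, ?_⟩, fun he k => ?_⟩
  · exact (hN k N₀.ι _ _ (hpb k) (hrange k)).1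
  · obtain ⟨y, hy⟩ := hhit k
    obtain ⟨z, -, hz⟩ := exists_point_of_isPullback (hpb k) y ⟨pt qT, hN₀u⟩ hy
    exact ⟨_, z.2, hz⟩
  · intro k k' w hw hw' hwt
    have hwu' := hwu w hwt
    haveI : LocallyQuasiFinite ((V k).ι ≫ pullback.snd f g) := inferInstance
    obtain ⟨r, hr⟩ := exists_gpt ((V k).ι ≫ pullback.snd f g) qT ⟨m w, hw⟩ hwu'
    have hrz : pt (r.1 ≫ (V k).ι) = m w := congrArg Subtype.val hr
    have h1 := (hV k).2.2.2 ⟨r.1 ≫ (V k).ι, by rw [Category.assoc]; exact r.2⟩ (by show pt (r.1 ≫ (V k).ι) ∈ V k; rw [hrz]; exact hw)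
    have h2 := (hV k').2.2.2 ⟨r.1 ≫ (V k).ι, by rw [Category.assoc]; exact r.2⟩ (by show pt (r.1 ≫ (V k).ι) ∈ V k'; rw [hrz]; exact hw')
    have h3 := congrArg (· ≫ pullback.fst f g) (h1.symm.trans h2)
    simp only [pullback.lift_fst] at h3
    exact hpinj (Subtype.ext h3)
  · intro w i hwt hwx
    obtain ⟨r, hr⟩ := exists_gpt (pullback.snd f g) qT (m w) (hwu w hwt)
    let r₀ : {r : GPts f q // pt r.1 = x i} :=
      ⟨⟨r.1 ≫ pullback.fst f g, by rw [Category.assoc, pullback.condition, reassoc_of% r.2, hqT]⟩, by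
        rw [pt_comp, hr, ← Scheme.Hom.comp_apply, hmfst, hwx]⟩
    refine ⟨e ⟨i, r₀⟩, by rw [Equiv.symm_apply_apply], ?_⟩
    show m w ∈ V _
    have hmem := (hV (e ⟨i, r₀⟩)).2.2.1
    have hrl : r.1 = pullback.lift (p (e ⟨i, r₀⟩)).1 qT ((p (e ⟨i, r₀⟩)).2.trans hqT.symm) := by
      apply pullback.hom_ext
      · have hp3 : p (e ⟨i, r₀⟩) = r₀.1 := by
          show (e.symm (e ⟨i, r₀⟩)).2.1 = _
          rw [Equiv.symm_apply_apply]
        rw [pullback.lift_fst, hp3]
      · rw [pullback.lift_snd, r.2]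
    rwa [← hrl, hr] at hmem
  · haveI : Etale ((V k).ι ≫ pullback.snd f g) := inferInstance
    exact (hN k N₀.ι _ _ (hpb k) (hrange k)).2 inferInstance

/-- Transfer along an open of the source containing the points. -/
theorem exists_nbhd_of_open {X S : Scheme.{u}} (f : X ⟶ S) (s : S) {ι : Type} [Finite ι]
    (x : ι → X) (hinj : Function.Injective x) (hs : ∀ i, f (x i) = s) (W : X.Opens)
    (hxW : ∀ i, x i ∈ W) [LocallyOfFiniteType (W.ι ≫ f)] [FormallyUnramified (W.ι ≫ f)] :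
    ∃ N : Nbhd f s x, Etale (W.ι ≫ f) → N.AllIso := by
  obtain ⟨N, hN⟩ := exists_nbhd_unramified (W.ι ≫ f) s (fun i => (⟨x i, hxW i⟩ : W.toScheme))
    (fun a b h => hinj (congrArg Subtype.val h)) hs
  let j : pullback (W.ι ≫ f) N.g ⟶ pullback f N.g :=
    pullback.map _ _ _ _ W.ι (𝟙 _) (𝟙 _) (by simp) (by simp)
  have hj2 : j ≫ pullback.snd f N.g = pullback.snd (W.ι ≫ f) N.g := by simp [j]
  have hj1 : j ≫ pullback.fst f N.g = pullback.fst (W.ι ≫ f) N.g ≫ W.ι := by simp [j]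
  have hji : Function.Injective j := j.isOpenEmbedding.injective
  have hsnd : ∀ w, pullback.snd f N.g (j w) = pullback.snd (W.ι ≫ f) N.g w := fun w => by
    rw [← Scheme.Hom.comp_apply, hj2]
  have heq : ∀ k, (j.isoImage (N.V k)).hom ≫ (j ''ᵁ N.V k).ι ≫ pullback.snd f N.g =
      (N.V k).ι ≫ pullback.snd (W.ι ≫ f) N.g := fun k => by
    rw [Scheme.Hom.isoImage_hom_ι_assoc, hj2]
  refine ⟨⟨N.U, N.g, N.u, N.etale, N.over', N.K, N.finite, N.lab, fun k => j ''ᵁ N.V k,
    fun k => ?_, fun k => ?_, ?_, ?_⟩, fun he k => ?_⟩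
  · rw [← MorphismProperty.cancel_left_of_respectsIso @IsClosedImmersion (j.isoImage (N.V k)).hom,
      heq]
    exact N.closed k
  · obtain ⟨w, hw, hwu⟩ := N.hit k
    exact ⟨j w, ⟨w, hw, rfl⟩, (hsnd w).trans hwu⟩
  · rintro k k' _ ⟨w, hw, rfl⟩ ⟨w', hw', hww⟩ hu
    obtain rfl := hji hww
    exact N.inj k k' w' hw hw' ((hsnd w').symm.trans hu)
  · intro w i hu hx
    obtain ⟨w', rfl⟩ : w ∈ Set.range j := by
      have hjp : IsPullback j (pullback.fst (W.ι ≫ f) N.g) (pullback.fst f N.g) W.ι := by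
        refine IsPullback.of_right ?_ hj1 (IsPullback.of_hasPullback f N.g).flip
        rw [hj2]
        exact (IsPullback.of_hasPullback (W.ι ≫ f) N.g).flip
      obtain ⟨p, hp, -⟩ := exists_point_of_isPullback hjp w ⟨x i, hxW i⟩ hx
      exact ⟨p, hp⟩
    obtain ⟨k, hk, hkV⟩ := N.cover w' i ((hsnd w').symm.trans hu) (by
      apply Subtype.ext
      show W.ι (pullback.fst (W.ι ≫ f) N.g w') = x i
      rw [← Scheme.Hom.comp_apply, ← hj1, Scheme.Hom.comp_apply, hx])
    exact ⟨k, hk, w', hkV, rfl⟩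
  · haveI := hN he k
    haveI : IsIso ((j.isoImage (N.V k)).hom ≫ (j ''ᵁ N.V k).ι ≫ pullback.snd f N.g) := by
      rw [heq]; infer_instance
    exact IsIso.of_isIso_comp_left (j.isoImage (N.V k)).hom _

theorem glue_source (P : MorphismProperty Scheme.{u}) [IsZariskiLocalAtSource P] {X S : Scheme.{u}}
    (f : X ⟶ S) {ι : Type} (W : ι → X.Opens) (h : ∀ i, P ((W i).ι ≫ f)) :
    P ((⨆ i, W i).ι ≫ f) := by
  refine IsZariskiLocalAtSource.of_iSup_eq_top (fun i => (⨆ i, W i).ι ⁻¹ᵁ W i) ?_ fun i => ?_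
  · rw [← Scheme.Hom.preimage_iSup, Scheme.Opens.ι_preimage_self]
  · rw [← Category.assoc, ← IsOpenImmersion.isoOfRangeEq_hom_fac
      (((⨆ i, W i).ι ⁻¹ᵁ W i).ι ≫ (⨆ i, W i).ι) (W i).ι ?_, Category.assoc]
    · exact (P.cancel_left_of_respectsIso _ _).2 (h i)
    · rw [Scheme.Hom.comp_base, TopCat.coe_comp, Set.range_comp, Scheme.Opens.range_ι,
        Scheme.Opens.range_ι]
      show (⨆ i, W i).ι '' ((⨆ i, W i).ι ⁻¹' (W i : Set X)) = (W i : Set X)
      rw [Set.image_preimage_eq_inter_range, Scheme.Opens.range_ι, Set.inter_eq_left]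
      exact le_iSup W i

theorem exists_nbhd {X S : Scheme.{u}} (f : X ⟶ S) (s : S) {ι : Type} [Finite ι]
    (x : ι → X) (hinj : Function.Injective x) (hs : ∀ i, f (x i) = s)
    (hx : ∀ i, ∃ W : X.Opens, x i ∈ W ∧ LocallyOfFiniteType (W.ι ≫ f) ∧
      FormallyUnramified (W.ι ≫ f)) :
    ∃ N : Nbhd f s x, (∀ i, ∃ W : X.Opens, x i ∈ W ∧ Etale (W.ι ≫ f)) → N.AllIso := by
  classical
  by_cases het : ∀ i, ∃ W : X.Opens, x i ∈ W ∧ Etale (W.ι ≫ f)
  · choose W hW hWe using het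
    let W₀ : X.Opens := ⨆ i, W i
    haveI : Etale (W₀.ι ≫ f) := glue_source @Etale f W hWe
    obtain ⟨N, hN⟩ := exists_nbhd_of_open f s x hinj hs W₀
      (fun i => TopologicalSpace.Opens.mem_iSup.2 ⟨i, hW i⟩)
    exact ⟨N, fun _ => hN inferInstance⟩
  · choose W hW hWl hWu using hx
    let W₀ : X.Opens := ⨆ i, W i
    haveI : LocallyOfFiniteType (W₀.ι ≫ f) := glue_source @LocallyOfFiniteType f W hWl
    haveI : FormallyUnramified (W₀.ι ≫ f) := glue_source @FormallyUnramified f W hWu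
    obtain ⟨N, -⟩ := exists_nbhd_of_open f s x hinj hs W₀
      (fun i => TopologicalSpace.Opens.mem_iSup.2 ⟨i, hW i⟩)
    exact ⟨N, fun h => absurd h het⟩

/-- In the separated case the pieces may be taken clopen and pairwise disjoint, with a complement. -/
theorem exists_decomposition {X S : Scheme.{u}} (f : X ⟶ S) [IsSeparated f] (s : S) {ι : Type}
    (x : ι → X) (N : Nbhd f s x) :
    ∃ (U : Scheme.{u}) (g : U ⟶ S) (u : U), Etale g ∧ g u = s ∧
      ∃ (K : Type) (_ : Finite K) (W : (pullback f g).Opens) (V : K → (pullback f g).Opens),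
        W ⊔ (⨆ k, V k) = ⊤ ∧ (∀ k, Disjoint W (V k)) ∧ (∀ k k', k ≠ k' → Disjoint (V k) (V k')) ∧
        (∀ k, IsClosedImmersion ((V k).ι ≫ pullback.snd f g) ∧
          ∃ w : ↑(pullback f g), w ∈ V k ∧ pullback.snd f g w = u) ∧
        (N.AllIso → ∀ k, IsIso ((V k).ι ≫ pullback.snd f g)) ∧
        (∀ (w : ↑(pullback f g)) (i : ι), w ∈ W → pullback.snd f g w = u → pullback.fst f g w ≠ x i) := by
  classical
  obtain ⟨T, g, u, hg, hgu, K, hK, lab, V, hclosed, hhit, hinj, hcover⟩ := N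
  haveI := hg
  haveI := hK
  haveI := hclosed
  haveI : IsSeparated (pullback.snd f g) := MorphismProperty.pullback_snd f g inferInstance
  have hVc : ∀ k, IsClosed (V k : Set ↑(pullback f g)) := fun k => by
    haveI : IsClosedImmersion (V k).ι := IsClosedImmersion.of_comp _ (pullback.snd f g)
    simpa using (V k).ι.isClosedEmbedding.isClosed_range
  let Z : Set T := ⋃ a : {a : K × K // a.1 ≠ a.2},
    ((V a.1.1).ι ≫ pullback.snd f g) '' ((V a.1.1).ι ⁻¹' (V a.1.2 : Set ↑(pullback f g)))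
  have hZ : IsClosed Z := isClosed_iUnion_of_finite fun a =>
    ((V a.1.1).ι ≫ pullback.snd f g).isClosedMap _ ((hVc _).preimage (V a.1.1).ι.continuous)
  have huZ : u ∉ Z := by
    simp only [Z, Set.mem_iUnion, not_exists]
    rintro ⟨⟨k, k'⟩, hne⟩ ⟨w, hw, hwu⟩
    exact hne (hinj k k' _ w.2 hw hwu)
  let N₀ : T.Opens := ⟨Zᶜ, hZ.isOpen_compl⟩
  let m := pullback.map f (N₀.ι ≫ g) f g (𝟙 X) N₀.ι (𝟙 S) (by simp) (by simp)
  have hm : IsPullback m (pullback.snd f (N₀.ι ≫ g)) (pullback.snd f g) N₀.ι :=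
    isPullback_pullbackMap f g (N₀.ι ≫ g) N₀.ι rfl
  have hmfst : m ≫ pullback.fst f g = pullback.fst f (N₀.ι ≫ g) := by simp [m]
  have hpb : ∀ k, IsPullback (m ∣_ V k) ((m ⁻¹ᵁ V k).ι ≫ pullback.snd f (N₀.ι ≫ g))
      ((V k).ι ≫ pullback.snd f g) N₀.ι :=
    fun k => (isPullback_morphismRestrict m (V k)).paste_vert hm
  let W : (pullback f (N₀.ι ≫ g)).Opens :=
    ⟨(⋃ k, m ⁻¹' (V k : Set ↑(pullback f g)))ᶜ,
      (isClosed_iUnion_of_finite fun k => (hVc k).preimage m.continuous).isOpen_compl⟩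
  refine ⟨N₀.toScheme, N₀.ι ≫ g, ⟨u, huZ⟩, inferInstance, hgu, K, hK, W, fun k => m ⁻¹ᵁ V k,
    ?_, fun k => ?_, fun k k' hne => ?_, fun k => ⟨?_, ?_⟩, fun hiso k => ?_, ?_⟩
  · rw [eq_top_iff]
    intro w _
    by_cases hw : w ∈ W
    · exact Or.inl hw
    · obtain ⟨k, hk⟩ := Set.mem_iUnion.1 (not_not.1 hw)
      exact Or.inr (TopologicalSpace.Opens.mem_iSup.2 ⟨k, hk⟩)
  · rw [← TopologicalSpace.Opens.coe_disjoint, Set.disjoint_left]
    exact fun w hw hk => hw (Set.mem_iUnion.2 ⟨k, hk⟩)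
  · rw [← TopologicalSpace.Opens.coe_disjoint, Set.disjoint_left]
    intro w hw hw'
    have h1 : pullback.snd f g (m w) ∈ Zᶜ := by
      rw [← Scheme.Hom.comp_apply, hm.w, Scheme.Hom.comp_apply]
      exact (pullback.snd f (N₀.ι ≫ g) w).2
    exact h1 (Set.mem_iUnion.2 ⟨⟨(k, k'), hne⟩, ⟨⟨m w, hw⟩, hw', rfl⟩⟩)
  · exact MorphismProperty.of_isPullback (hpb k) (hclosed k)
  · obtain ⟨y, hy, hyu⟩ := hhit k
    obtain ⟨z, -, hz⟩ := exists_point_of_isPullback (hpb k) ⟨y, hy⟩ ⟨u, huZ⟩ hyu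
    exact ⟨_, z.2, hz⟩
  · exact MorphismProperty.of_isPullback (P := MorphismProperty.isomorphisms Scheme.{u}) (hpb k)
      (hiso k)
  · intro w i hw hwu hwx
    obtain ⟨k, -, hk⟩ := hcover (m w) i (by
      rw [← Scheme.Hom.comp_apply, hm.w, Scheme.Hom.comp_apply, hwu]; rfl) (by
      rw [← Scheme.Hom.comp_apply, hmfst, hwx])
    exact hw (Set.mem_iUnion.2 ⟨k, hk⟩)

end Groth.Agent.EtLocalLib
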