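import Mathlib

/-!
# Étale local homomorphisms
-/

open IsLocalRing TensorProduct

universe u

namespace Groth.Agent.EtLocalLib

/-- A flat, formally unramified, essentially of finite type local algebra over a Noetherian local
ring is formally étale. -/
theorem formallyEtale_of_flat (R S : Type u) [CommRing R] [CommRing S] [Algebra R S]
    [IsLocalRing R] [IsLocalRing S] [IsLocalHom (algebraMap R S)]
    [IsNoetherianRing R] [Algebra.EssFiniteType R S] [Module.Flat R S]
    [Algebra.FormallyUnramified R S] : Algebra.FormallyEtale R S := by
  have : Algebra.FinitePresentation R (Algebra.EssFiniteType.subalgebra R S) :=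
    Algebra.FinitePresentation.of_finiteType.mp inferInstance
  have : Algebra.FormallyEtale (ResidueField R) (ResidueField R ⊗[R] S) :=
    Algebra.FormallyEtale.of_formallyUnramified_of_field _ _
  have : Algebra.FormallySmooth R S :=
    Algebra.FormallySmooth.of_formallySmooth_residueField_tensor
      (P := Algebra.EssFiniteType.subalgebra R S) (Algebra.EssFiniteType.submonoid R S)
  exact .of_formallyUnramified_and_formallySmooth

/-- Formally étale and essentially of finite type over a Noetherian ring implies flat. -/
theorem flat_of_isEtaleAt (A B : Type u) [CommRing A] [CommRing B] [Algebra A B]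
    [Algebra.FinitePresentation A B] (q : Ideal B) [q.IsPrime] [Algebra.IsEtaleAt A q] :
    Module.Flat A (Localization.AtPrime q) := by
  obtain ⟨f, hf, h⟩ := Algebra.exists_etale_of_isEtaleAt (R := A) q
  have : Module.Flat A (Localization.Away f) := inferInstance
  let g : Localization.Away f →ₐ[B] Localization.AtPrime q :=
    IsLocalization.liftAlgHom (M := Submonoid.powers f) (f := Algebra.ofId B _) (by
      rintro ⟨_, n, rfl⟩
      simpa using (IsLocalization.map_units (Localization.AtPrime q) (M := q.primeCompl)
        ⟨f, hf⟩).pow n)
  algebraize [g.toRingHom]
  have : IsScalarTower B (Localization.Away f) (Localization.AtPrime q) :=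
    .of_algebraMap_eq' g.comp_algebraMap.symm
  have : IsScalarTower A (Localization.Away f) (Localization.AtPrime q) :=
    .to₁₃₄ _ B _ _
  have hle : Submonoid.powers f ≤ q.primeCompl := Submonoid.powers_le.mpr hf
  have : IsLocalization (q.primeCompl.map (algebraMap B (Localization.Away f)))
      (Localization.AtPrime q) :=
    IsLocalization.isLocalization_of_submonoid_le _ _ _ _ hle
  have : Module.Flat (Localization.Away f) (Localization.AtPrime q) :=
    IsLocalization.flat _ (q.primeCompl.map (algebraMap B (Localization.Away f)))
  exact Module.Flat.trans A (Localization.Away f) _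

end Groth.Agent.EtLocalLib
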