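import Mathlib
import Groth.Agent.EtLocalLib.LocalEtale

/-!
# Unramified and étale loci of morphisms of schemes
-/

open AlgebraicGeometry CategoryTheory IsLocalRing

universe u

namespace Groth.Agent.EtLocalLib

variable {X Y : Scheme.{u}}

lemma formallyUnramified_stalkMap_iff {f : X ⟶ Y} {x : X} (U : Y.Opens)
    (hU : IsAffineOpen U) (V : X.Opens) (hV : IsAffineOpen V) (hVU : V ≤ f ⁻¹ᵁ U) (hx : x ∈ V) :
    letI := (f.appLE U V hVU).hom.toAlgebra
    (f.stalkMap x).hom.FormallyUnramified ↔
      Algebra.IsUnramifiedAt Γ(Y, U) (hV.primeIdealOf ⟨x, hx⟩).asIdeal := by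
  let := (f.appLE U V hVU).hom.toAlgebra
  let p := (hU.primeIdealOf ⟨f x, hVU hx⟩).asIdeal
  let q := (hV.primeIdealOf ⟨x, hx⟩).asIdeal
  have : q.LiesOver p :=
    ⟨congr($(IsAffineOpen.comap_primeIdealOf_appLE U hU V hV hVU hx).1).symm⟩
  let := Localization.AtPrime.algebraOfLiesOver p q
  trans Algebra.FormallyUnramified (Localization.AtPrime p) (Localization.AtPrime q)
  · rw [← RingHom.formallyUnramified_algebraMap]
    exact RingHom.FormallyUnramified.respectsIso.arrow_mk_iso_iff
      (IsAffineOpen.arrowStalkMapIso f U hU V hV hVU hx)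
  · exact ⟨fun _ ↦ Algebra.FormallyUnramified.comp _ (Localization.AtPrime p) _,
      fun _ ↦ .of_restrictScalars Γ(Y, U) _ _⟩

set_option backward.defeqAttrib.useBackward true in
set_option backward.isDefEq.respectTransparency false in
/-- A morphism locally of finite type with formally unramified stalk map at `x` is formally
unramified near `x`. -/
theorem exists_formallyUnramified_nhd (f : X ⟶ Y) [LocallyOfFiniteType f] (x : X)
    (H : (f.stalkMap x).hom.FormallyUnramified) :
    ∃ W : X.Opens, x ∈ W ∧ FormallyUnramified (W.ι ≫ f) := by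
  obtain ⟨_, ⟨U, hU, rfl⟩, hxU, -⟩ :=
    Y.isBasis_affineOpens.exists_subset_of_mem_open (Set.mem_univ (f x)) isOpen_univ
  obtain ⟨_, ⟨V, hV, rfl⟩, hxV, hVU⟩ :=
    X.isBasis_affineOpens.exists_subset_of_mem_open hxU (U.2.preimage f.continuous)
  have := f.finiteType_appLE hU hV hVU
  algebraize [(f.appLE U V hVU).hom]
  have := (formallyUnramified_stalkMap_iff U hU V hV hVU hxV).mp H
  obtain ⟨r, hrx, hr⟩ := Algebra.exists_formallyUnramified_of_isUnramifiedAt (R := Γ(Y, U))
    (hV.primeIdealOf ⟨x, hxV⟩).asIdeal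
  have hVU' : X.basicOpen r ≤ f ⁻¹ᵁ U := (X.basicOpen_le r).trans hVU
  refine ⟨X.basicOpen r, ?_, ?_⟩
  · rwa [← PrimeSpectrum.mem_basicOpen, IsAffineOpen.primeIdealOf,
      ← hV.fromSpec_preimage_basicOpen, Scheme.Hom.mem_preimage, ← Scheme.Hom.comp_apply,
      IsAffineOpen.isoSpec_hom, IsAffineOpen.toSpecΓ_fromSpec] at hrx
  · have hru : (f.appLE U (X.basicOpen r) hVU').hom.FormallyUnramified := by
      have := hV.isLocalization_basicOpen r
      rw [← RingHom.formallyUnramified_algebraMap] at hr
      convert! RingHom.FormallyUnramified.respectsIso.1 _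
        (IsLocalization.algEquiv (.powers r) _ Γ(X, X.basicOpen r)).toRingEquiv hr
      ext
      dsimp
      simp only [IsScalarTower.algebraMap_apply Γ(Y, U) Γ(X, V) (Localization _),
        IsLocalization.map_eq]
      simp only [RingHom.algebraMap_toAlgebra, RingHomCompTriple.comp_apply,
        ← ConcreteCategory.comp_apply, Scheme.Hom.appLE_map]
    have : IsAffine U := hU
    have : IsAffine (X.basicOpen r) := hV.basicOpen r
    have : FormallyUnramified (f.resLE U (X.basicOpen r) hVU') := by
      rw [HasRingHomProperty.iff_of_isAffine (P := @FormallyUnramified)]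
      exact (RingHom.FormallyUnramified.respectsIso.arrow_mk_iso_iff
        (arrowResLEAppIso f U _ hVU')).mpr hru
    rw [← Scheme.Hom.resLE_comp_ι f hVU']
    exact MorphismProperty.comp_mem _ _ _ this inferInstance

set_option backward.defeqAttrib.useBackward true in
set_option backward.isDefEq.respectTransparency false in
/-- The stalk map of `f` at a point of an open, as the stalk map of the restriction. -/
lemma stalkMap_property (f : X ⟶ Y) (W : X.Opens) (x : X) (hx : x ∈ W)
    (P : ∀ {R S : Type u} [CommRing R] [CommRing S], (R →+* S) → Prop)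
    (hP : RingHom.RespectsIso P) (h : P ((W.ι ≫ f).stalkMap ⟨x, hx⟩).hom) :
    P (f.stalkMap x).hom := by
  rw [Scheme.Hom.stalkMap_comp, CommRingCat.hom_comp,
    hP.cancel_right_isIso] at h
  exact h

/-- A morphism locally of finite presentation is smooth near any point with formally smooth
stalk map. -/
theorem exists_smooth_nhd (f : X ⟶ Y) [LocallyOfFinitePresentation f] (x : X)
    (H : (f.stalkMap x).hom.FormallySmooth) :
    ∃ W : X.Opens, x ∈ W ∧ Smooth (W.ι ≫ f) := by
  refine ⟨f.smoothLocus, H, ?_⟩
  rw [← Scheme.Hom.smoothLocus_eq_top_iff, ← Scheme.Hom.preimage_smoothLocus_eq]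
  exact f.smoothLocus.ι_preimage_self

/-- A morphism locally of finite presentation with formally unramified and formally smooth stalk
map at `x` is étale near `x`. -/
theorem exists_etale_nhd (f : X ⟶ Y) [LocallyOfFinitePresentation f] (x : X)
    (H : (f.stalkMap x).hom.FormallyUnramified) (H' : (f.stalkMap x).hom.FormallySmooth) :
    ∃ W : X.Opens, x ∈ W ∧ Etale (W.ι ≫ f) := by
  obtain ⟨W₁, h₁, hu⟩ := exists_formallyUnramified_nhd f x H
  obtain ⟨W₂, h₂, hs⟩ := exists_smooth_nhd f x H'
  refine ⟨W₁ ⊓ W₂, ⟨h₁, h₂⟩, ?_⟩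
  have : FormallyUnramified ((W₁ ⊓ W₂).ι ≫ f) := by
    rw [← Scheme.homOfLE_ι X (inf_le_left : W₁ ⊓ W₂ ≤ W₁), Category.assoc]
    exact MorphismProperty.comp_mem _ _ _ inferInstance hu
  have : Smooth ((W₁ ⊓ W₂).ι ≫ f) := by
    rw [← Scheme.homOfLE_ι X (inf_le_right : W₁ ⊓ W₂ ≤ W₂), Category.assoc]
    exact MorphismProperty.comp_mem _ _ _ inferInstance hs
  exact Etale.of_formallyUnramified_of_flat _

/-- The residue field conditions, transported from `IsLocalRing.ResidueField`. -/
lemma residueField_algebra_eq (f : X ⟶ Y) (x : X) :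
    letI := (f.stalkMap x).hom.toAlgebra
    haveI : IsLocalHom (algebraMap (Y.presheaf.stalk (f x)) (X.presheaf.stalk x)) :=
      inferInstanceAs <| IsLocalHom (f.stalkMap x).hom
    ((f.residueFieldMap x).hom.toAlgebra : Algebra (Y.residueField (f.base x)) (X.residueField x))
      = (inferInstance : Algebra (IsLocalRing.ResidueField <| Y.presheaf.stalk (f x))
      (IsLocalRing.ResidueField <| X.presheaf.stalk x)) := by
  refine Algebra.algebra_ext _ _ fun x ↦ ?_
  obtain ⟨x, rfl⟩ := IsLocalRing.residue_surjective x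
  rfl

/-- The stalk map is formally unramified iff it is an unramified homomorphism of local rings. -/
theorem stalkMap_unramified_iff (f : X ⟶ Y) [LocallyOfFiniteType f] (x : X) :
    (f.stalkMap x).hom.FormallyUnramified ↔
      ((maximalIdeal (Y.presheaf.stalk (f.base x))).map (f.stalkMap x).hom =
          maximalIdeal (X.presheaf.stalk x) ∧
        letI := (f.residueFieldMap x).hom.toAlgebra
        Module.Finite (Y.residueField (f.base x)) (X.residueField x) ∧
          Algebra.IsSeparable (Y.residueField (f.base x)) (X.residueField x)) := by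
  algebraize [(f.stalkMap x).hom]
  have : IsLocalHom (algebraMap (Y.presheaf.stalk (f x)) (X.presheaf.stalk x)) :=
    inferInstanceAs <| IsLocalHom (f.stalkMap x).hom
  have : Algebra.EssFiniteType (Y.presheaf.stalk (f x)) (X.presheaf.stalk x) :=
    LocallyOfFiniteType.stalkMap f x
  rw [show (f.residueFieldMap x).hom.toAlgebra = _ from residueField_algebra_eq f x]
  change Algebra.FormallyUnramified (Y.presheaf.stalk (f x)) (X.presheaf.stalk x) ↔ _
  exact ⟨fun _ ↦ ⟨Algebra.FormallyUnramified.map_maximalIdeal,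
      (inferInstance : Module.Finite (ResidueField (Y.presheaf.stalk (f x)))
        (ResidueField (X.presheaf.stalk x))),
      (inferInstance : Algebra.IsSeparable (ResidueField (Y.presheaf.stalk (f x)))
        (ResidueField (X.presheaf.stalk x)))⟩,
    fun ⟨h1, _, h3⟩ ↦
      have : Algebra.IsSeparable (ResidueField (Y.presheaf.stalk (f x)))
        (ResidueField (X.presheaf.stalk x)) := h3
      .of_map_maximalIdeal h1⟩

end Groth.Agent.EtLocalLib
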