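import Mathlib
import Groth.Agent.CMCat.ComplQuot
import Groth.Agent.AdicLemmas.Basic

/-!
# Unramified and étale local homomorphisms and completions
-/

set_option autoImplicit false

open IsLocalRing TensorProduct

universe u

namespace Groth.Agent.EtLocalLib

/-- Flatness descends along a faithfully flat algebra. -/
theorem flat_of_flat_of_faithfullyFlat (A B C : Type u) [CommRing A] [CommRing B] [CommRing C]
    [Algebra A B] [Algebra B C] [Algebra A C] [IsScalarTower A B C] [Module.FaithfullyFlat B C]
    [Module.Flat A C] : Module.Flat A B := by
  rw [Module.Flat.iff_lTensor_preserves_injective_linearMap]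
  intro N P _ _ _ _ f hf
  have h : Function.Injective ((f.baseChange B).baseChange C) := by
    have h1 : (f.baseChange B).baseChange C =
        (AlgebraTensorModule.cancelBaseChange A B C C P).symm.toLinearMap ∘ₗ
          f.baseChange C ∘ₗ (AlgebraTensorModule.cancelBaseChange A B C C N).toLinearMap := by
      refine AlgebraTensorModule.curry_injective ?_
      refine LinearMap.ext_ring (LinearMap.ext fun x => ?_)
      induction x with
      | zero => simp
      | add x y hx hy => rw [map_add, map_add, hx, hy]
      | tmul b n => simp [TensorProduct.smul_tmul, TensorProduct.smul_tmul']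
    have hfC : Function.Injective (f.baseChange C) :=
      Module.Flat.lTensor_preserves_injective_linearMap f hf
    rw [h1]
    exact ((AlgebraTensorModule.cancelBaseChange A B C C P).symm.injective.comp hfC).comp
      (AlgebraTensorModule.cancelBaseChange A B C C N).injective
  exact (Module.FaithfullyFlat.lTensor_injective_iff_injective B C (f.baseChange B)).mp h

/-- If `B` is flat over `A`, coefficients of lifts of a residue basis are small when the
combination is small. -/
theorem coeff_mem_pow (A B : Type u) [CommRing A] [CommRing B] [IsLocalRing A] [IsLocalRing B]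
    [Algebra A B] [IsLocalHom (algebraMap A B)] [Module.Flat A B] {ι : Type*} [Fintype ι]
    (bb : Module.Basis ι (ResidueField A) (ResidueField B)) (b : ι → B)
    (hb : ∀ i, residue B (b i) = bb i) (k : ℕ) (a : ι → A)
    (h : ∑ i, a i • b i ∈ (maximalIdeal A ^ k).map (algebraMap A B)) (i : ι) :
    a i ∈ maximalIdeal A ^ k := by
  classical
  induction k generalizing i with
  | zero => simp
  | succ k ih =>
    have hak : ∀ j, a j ∈ maximalIdeal A ^ k := fun j =>
      ih (Ideal.map_mono (Ideal.pow_le_pow_right k.le_succ) h) j
    let I : Ideal A := maximalIdeal A ^ k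
    let V := A ⧸ maximalIdeal A ^ (k + 1)
    -- `(x, c) ↦ x c` from `m^k × k_A` to `A / m^(k+1)`
    let μ : I →ₗ[A] ResidueField A →ₗ[A] V :=
      { toFun := fun x => Submodule.liftQ (maximalIdeal A)
          ((Ideal.Quotient.mkₐ A (maximalIdeal A ^ (k + 1))).toLinearMap ∘ₗ
            LinearMap.mulLeft A (x : A)) (fun y hy => by
          refine LinearMap.mem_ker.mpr (Ideal.Quotient.eq_zero_iff_mem.mpr ?_)
          rw [pow_succ]
          exact Ideal.mul_mem_mul x.2 hy)
        map_add' := fun x y => Submodule.linearMap_qext _ (LinearMap.ext fun c => by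
          simp only [LinearMap.comp_apply, LinearMap.add_apply, Submodule.mkQ_apply,
            Submodule.liftQ_apply, LinearMap.mulLeft_apply, Submodule.coe_add, add_mul, map_add]
          rfl)
        map_smul' := fun r x => Submodule.linearMap_qext _ (LinearMap.ext fun c => by
          simp only [LinearMap.comp_apply, LinearMap.smul_apply, Submodule.mkQ_apply,
            Submodule.liftQ_apply, LinearMap.mulLeft_apply, Submodule.coe_smul, smul_mul_assoc,
            map_smul, RingHom.id_apply]
          rfl) }
    have hμ : ∀ (x : I) (c : A), μ x (residue A c) = Ideal.Quotient.mk _ (x * c) := fun x c => rfl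
    let res : B →ₗ[A] ResidueField B := (IsScalarTower.toAlgHom A B (ResidueField B)).toLinearMap
    let lam : B →ₗ[A] ResidueField A := (bb.coord i).restrictScalars A ∘ₗ res
    let T : I ⊗[A] B →ₗ[A] V := TensorProduct.lift (μ.compl₂ lam)
    have hinj : Function.Injective (LinearMap.rTensor B (Submodule.subtype I)) :=
      Module.Flat.rTensor_preserves_injective_linearMap _ Subtype.val_injective
    let μI : I ⊗[A] B →ₗ[A] B := (TensorProduct.lid A B).toLinearMap ∘ₗ
      LinearMap.rTensor B (Submodule.subtype I)
    have hμI : Function.Injective μI := (TensorProduct.lid A B).injective.comp hinj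
    -- elements of `m^(k+1) B` come from tensors killed by `T`
    have hlift : ∀ y ∈ (maximalIdeal A ^ (k + 1)).map (algebraMap A B),
        ∃ η : I ⊗[A] B, T η = 0 ∧ μI η = y := by
      intro y hy
      rw [← Submodule.restrictScalars_mem A, ← Ideal.smul_top_eq_map] at hy
      refine Submodule.smul_induction_on hy (fun r hr z _ => ?_) ?_
      · refine ⟨(⟨r, Ideal.pow_le_pow_right k.le_succ hr⟩ : I) ⊗ₜ z, ?_, ?_⟩
        · obtain ⟨c, hc⟩ := residue_surjective (lam z)
          simp only [T, TensorProduct.lift.tmul, LinearMap.compl₂_apply]
          rw [← hc, hμ, Ideal.Quotient.eq_zero_iff_mem]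
          exact Ideal.mul_mem_right _ _ hr
        · simp [μI]
      · rintro y z ⟨η, h1, h2⟩ ⟨θ, h3, h4⟩
        exact ⟨η + θ, by rw [map_add, h1, h3, add_zero], by rw [map_add, h2, h4]⟩
    obtain ⟨η, hη, hη'⟩ := hlift _ h
    have hξ : μI (∑ j, (⟨a j, hak j⟩ : I) ⊗ₜ b j) = ∑ j, a j • b j := by
      simp [μI]
    have hT := congrArg T (hμI (hη'.trans hξ.symm))
    rw [hη, map_sum] at hT
    have hlam : ∀ j, lam (b j) = if i = j then residue A 1 else residue A 0 := fun j => by
      have h1 : res (b j) = bb j := hb j
      simp only [lam, LinearMap.comp_apply, h1, LinearMap.coe_restrictScalars,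
        Module.Basis.coord_apply, Module.Basis.repr_self, Finsupp.single_apply, map_one, map_zero]
      simp [eq_comm]
    rw [Finset.sum_eq_single i (fun j _ hji => by
      simp only [T, TensorProduct.lift.tmul, LinearMap.compl₂_apply, hlam,
        if_neg (Ne.symm hji), hμ, mul_zero, map_zero]) (by simp)] at hT
    simp only [T, TensorProduct.lift.tmul, LinearMap.compl₂_apply, hlam, if_pos, hμ, mul_one] at hT
    exact Ideal.Quotient.eq_zero_iff_mem.mp hT.symm

variable {A B : Type u} [CommRing A] [CommRing B] [IsLocalRing A] [IsLocalRing B]
  [IsNoetherianRing A] [IsNoetherianRing B]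

/-- The residue field of a completion. -/
theorem bijective_residueField_completion :
    Function.Bijective (ResidueField.map (algebraMap A (AdicCompletion (maximalIdeal A) A))) := by
  refine ⟨RingHom.injective _, fun x => ?_⟩
  obtain ⟨x, rfl⟩ := residue_surjective x
  obtain ⟨a, ha⟩ := Ideal.Quotient.mk_surjective (AdicCompletion.evalOneₐ (maximalIdeal A) x)
  refine ⟨residue A a, ?_⟩
  rw [ResidueField.map_residue]
  refine Ideal.Quotient.eq.mpr ?_
  rw [AdicCompletion.maximalIdeal_eq_map,
    ← AdicCompletion.ker_evalOneₐ_eq_map _ (maximalIdeal A).fg_of_isNoetherianRing]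
  change AdicCompletion.evalOneₐ _ _ = 0
  rw [map_sub, sub_eq_zero, AlgHom.commutes]
  exact ha

variable [Algebra A B] [IsLocalHom (algebraMap A B)]
  [Algebra (AdicCompletion (maximalIdeal A) A) (AdicCompletion (maximalIdeal B) B)]
  [IsScalarTower A (AdicCompletion (maximalIdeal A) A) (AdicCompletion (maximalIdeal B) B)]

theorem map_maximalIdeal_completion :
    (maximalIdeal (AdicCompletion (maximalIdeal A) A)).map
        (algebraMap (AdicCompletion (maximalIdeal A) A) (AdicCompletion (maximalIdeal B) B)) =
      ((maximalIdeal A).map (algebraMap A B)).map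
        (algebraMap B (AdicCompletion (maximalIdeal B) B)) := by
  rw [AdicCompletion.maximalIdeal_eq_map, Ideal.map_map, Ideal.map_map,
    ← IsScalarTower.algebraMap_eq, ← IsScalarTower.algebraMap_eq]

instance isLocalHom_completion :
    IsLocalHom (algebraMap (AdicCompletion (maximalIdeal A) A)
      (AdicCompletion (maximalIdeal B) B)) := by
  refine ((IsLocalRing.local_hom_TFAE _).out 0 2).mpr ?_
  rw [map_maximalIdeal_completion, AdicCompletion.maximalIdeal_eq_map (R := B)]
  exact Ideal.map_mono (((IsLocalRing.local_hom_TFAE (algebraMap A B)).out 0 2).mp ‹_›)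

theorem faithfullyFlat_completion_self :
    Module.FaithfullyFlat B (AdicCompletion (maximalIdeal B) B) :=
  RegLocal.faithfullyFlat_completion B _ (maximalIdeal.isMaximal B).ne_top

theorem map_eq_iff :
    (maximalIdeal (AdicCompletion (maximalIdeal A) A)).map
        (algebraMap (AdicCompletion (maximalIdeal A) A) (AdicCompletion (maximalIdeal B) B)) =
      maximalIdeal (AdicCompletion (maximalIdeal B) B) ↔
    (maximalIdeal A).map (algebraMap A B) = maximalIdeal B := by
  have := faithfullyFlat_completion_self (B := B)
  rw [map_maximalIdeal_completion, AdicCompletion.maximalIdeal_eq_map (R := B)]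
  exact ⟨fun h => Ideal.map_injective_of_faithfullyFlat h, fun h => by rw [h]⟩

theorem isSeparable_iff :
    Algebra.IsSeparable (ResidueField (AdicCompletion (maximalIdeal A) A))
        (ResidueField (AdicCompletion (maximalIdeal B) B)) ↔
      Algebra.IsSeparable (ResidueField A) (ResidueField B) := by
  refine (Algebra.IsSeparable.iff_of_equiv_equiv
    (RingEquiv.ofBijective _ bijective_residueField_completion)
    (RingEquiv.ofBijective _ bijective_residueField_completion) ?_).symm
  refine RingHom.ext fun x => ?_
  obtain ⟨a, rfl⟩ := residue_surjective x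
  change algebraMap (ResidueField (AdicCompletion (maximalIdeal A) A))
      (ResidueField (AdicCompletion (maximalIdeal B) B))
      (ResidueField.map (algebraMap A _) (residue A a)) =
    ResidueField.map (algebraMap B _) (algebraMap (ResidueField A) (ResidueField B) (residue A a))
  rw [ResidueField.map_residue, ResidueField.algebraMap_residue, ResidueField.algebraMap_residue,
    ResidueField.map_residue, ← IsScalarTower.algebraMap_apply, ← IsScalarTower.algebraMap_apply]

/-- An unramified local homomorphism induces a finite map of completions. -/
theorem finite_completion (hm : (maximalIdeal A).map (algebraMap A B) = maximalIdeal B)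
    [Module.Finite (ResidueField A) (ResidueField B)] :
    Module.Finite (AdicCompletion (maximalIdeal A) A) (AdicCompletion (maximalIdeal B) B) := by
  let C := AdicCompletion (maximalIdeal A) A
  let D := AdicCompletion (maximalIdeal B) B
  have hmax : (maximalIdeal C).map (algebraMap C D) = maximalIdeal D := map_eq_iff.mpr hm
  have := AdicCompletion.isAdicComplete_of_fg (maximalIdeal A).fg_of_isNoetherianRing
  have : IsHausdorff (maximalIdeal C) D :=
    IsHausdorff.of_map (J := maximalIdeal D) hmax.le
  refine AdicLemmas.module_finite_of_quotient_finite (maximalIdeal C) D ?_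
  rw [Ideal.smul_top_eq_map, hmax]
  have : Module.Finite A (ResidueField B) := .trans (ResidueField A) _
  let g : ResidueField B →ₗ[A] ResidueField D :=
    { toFun := ResidueField.map (algebraMap B D)
      map_add' := map_add _
      map_smul' := fun a x => by
        rw [RingHom.id_apply, Algebra.smul_def, Algebra.smul_def, map_mul]
        rw [IsScalarTower.algebraMap_apply A B (ResidueField B),
          IsScalarTower.algebraMap_apply A D (ResidueField D),
          IsScalarTower.algebraMap_apply A B D]
        rfl }
  have : Module.Finite A (ResidueField D) :=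
    Module.Finite.of_surjective g bijective_residueField_completion.2
  have : Module.Finite C (ResidueField D) := .of_restrictScalars_finite A C _
  have : Module.Finite C (D ⧸ maximalIdeal D) := ‹Module.Finite C (ResidueField D)›
  exact Module.Finite.equiv (Submodule.Quotient.restrictScalarsEquiv C (maximalIdeal D)).symm

/-- Completions and formally unramified local homomorphisms. -/
theorem formallyUnramified_completion [Algebra.EssFiniteType A B]
    [Algebra.FormallyUnramified A B] :
    Module.Finite (AdicCompletion (maximalIdeal A) A) (AdicCompletion (maximalIdeal B) B) ∧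
      Algebra.FormallyUnramified (AdicCompletion (maximalIdeal A) A)
        (AdicCompletion (maximalIdeal B) B) := by
  have hm := Algebra.FormallyUnramified.map_maximalIdeal (R := A) (S := B)
  have h := finite_completion hm
  have : Algebra.IsSeparable (ResidueField (AdicCompletion (maximalIdeal A) A))
      (ResidueField (AdicCompletion (maximalIdeal B) B)) :=
    isSeparable_iff.mpr (inferInstance : Algebra.IsSeparable (ResidueField A) (ResidueField B))
  exact ⟨h, .of_map_maximalIdeal (map_eq_iff.mpr hm)⟩

theorem formallyUnramified_of_completion [Algebra.EssFiniteType A B]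
    [Algebra.EssFiniteType (AdicCompletion (maximalIdeal A) A) (AdicCompletion (maximalIdeal B) B)]
    [Algebra.FormallyUnramified (AdicCompletion (maximalIdeal A) A)
      (AdicCompletion (maximalIdeal B) B)] :
    Algebra.FormallyUnramified A B := by
  have : Algebra.IsSeparable (ResidueField A) (ResidueField B) :=
    isSeparable_iff.mp (inferInstance : Algebra.IsSeparable
      (ResidueField (AdicCompletion (maximalIdeal A) A))
      (ResidueField (AdicCompletion (maximalIdeal B) B)))
  exact .of_map_maximalIdeal (map_eq_iff.mp Algebra.FormallyUnramified.map_maximalIdeal)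

/-- An étale local homomorphism induces a finite free map of completions. -/
theorem exists_equiv_completion [Algebra.EssFiniteType A B] [Algebra.FormallyUnramified A B]
    [Module.Flat A B] : ∃ n : ℕ, 0 < n ∧
      Nonempty ((Fin n → AdicCompletion (maximalIdeal A) A) ≃ₗ[AdicCompletion (maximalIdeal A) A]
        AdicCompletion (maximalIdeal B) B) := by
  classical
  let C := AdicCompletion (maximalIdeal A) A
  let D := AdicCompletion (maximalIdeal B) B
  have hm := Algebra.FormallyUnramified.map_maximalIdeal (R := A) (S := B)
  have hfin : Module.Finite C D := finite_completion hm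
  let bb := Module.finBasis (ResidueField A) (ResidueField B)
  choose b hb using fun i => residue_surjective (bb i)
  let f : (Fin (Module.finrank (ResidueField A) (ResidueField B)) → C) →ₗ[C] D :=
    Fintype.linearCombination C (fun i => algebraMap B D (b i))
  have hmax : (maximalIdeal C).map (algebraMap C D) = maximalIdeal D := map_eq_iff.mpr hm
  refine ⟨_, Module.finrank_pos, ⟨LinearEquiv.ofBijective f ⟨?_, ?_⟩⟩⟩
  · rw [injective_iff_map_eq_zero]
    intro v hv
    funext i
    refine AdicCompletion.ext_evalₐ fun k => ?_
    rw [Pi.zero_apply, map_zero]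
    choose a ha using fun j => Ideal.Quotient.mk_surjective
      (AdicCompletion.evalₐ (maximalIdeal A) k (v j))
    have hsub : ∀ j, v j - algebraMap A C (a j) ∈ (maximalIdeal A ^ k).map (algebraMap A C) := by
      intro j
      rw [← CMCat.evalₐ_eq_zero_iff (maximalIdeal A).fg_of_isNoetherianRing, map_sub,
        AlgHom.commutes, sub_eq_zero]
      exact (ha j).symm
    have hsum : algebraMap B D (∑ j, a j • b j) ∈
        ((maximalIdeal A ^ k).map (algebraMap A B)).map (algebraMap B D) := by
      have h1 : algebraMap B D (∑ j, a j • b j) =
          f v - ∑ j, (v j - algebraMap A C (a j)) • algebraMap B D (b j) := by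
        simp only [f, Fintype.linearCombination_apply, sub_smul, Finset.sum_sub_distrib,
          sub_sub_cancel, map_sum, algebraMap_smul]
        refine Finset.sum_congr rfl fun j _ => ?_
        rw [Algebra.smul_def, map_mul, ← IsScalarTower.algebraMap_apply, ← Algebra.smul_def]
      rw [h1, hv, zero_sub, neg_mem_iff]
      refine sum_mem fun j _ => ?_
      rw [Algebra.smul_def]
      refine Ideal.mul_mem_right _ _ ?_
      have h2 := Ideal.mem_map_of_mem (algebraMap C D) (hsub j)
      rwa [Ideal.map_map, ← IsScalarTower.algebraMap_eq, IsScalarTower.algebraMap_eq A B D,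
        ← Ideal.map_map] at h2
    have := faithfullyFlat_completion_self (B := B)
    have hmem : ∑ j, a j • b j ∈ (maximalIdeal A ^ k).map (algebraMap A B) := by
      rw [← Ideal.comap_map_eq_self_of_faithfullyFlat (B := D)
        ((maximalIdeal A ^ k).map (algebraMap A B))]
      exact hsum
    rw [← ha i]
    exact Ideal.Quotient.eq_zero_iff_mem.mpr (coeff_mem_pow A B bb b hb k a hmem i)
  · rw [← LinearMap.range_eq_top, ← top_le_iff]
    refine Submodule.le_of_le_smul_of_le_jacobson_bot hfin.fg_top (maximalIdeal_le_jacobson _)
      fun y _ => ?_
    obtain ⟨x, hx⟩ := bijective_residueField_completion.2 (residue D y)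
    obtain ⟨c, hc⟩ : ∃ c : Fin _ → ResidueField A, ∑ i, c i • bb i = x := ⟨_, bb.sum_repr x⟩
    choose a ha using fun i => residue_surjective (c i)
    have hy : residue D (y - algebraMap B D (∑ i, a i • b i)) = 0 := by
      have h1 : residue B (∑ i, a i • b i) = x := by
        rw [← hc, map_sum]
        refine Finset.sum_congr rfl fun i _ => ?_
        rw [← ha i, Algebra.smul_def, map_mul, hb, ← ResidueField.algebraMap_residue,
          ← Algebra.smul_def]
      rw [map_sub, sub_eq_zero, ← hx, ← h1, ResidueField.map_residue]
    rw [residue_eq_zero_iff, ← hmax] at hy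
    refine Submodule.mem_sup.mpr ⟨algebraMap B D (∑ i, a i • b i), ?_, _, ?_,
      add_sub_cancel _ y⟩
    · refine ⟨fun i => algebraMap A C (a i), ?_⟩
      simp only [f, Fintype.linearCombination_apply, map_sum, algebraMap_smul]
      refine Finset.sum_congr rfl fun i _ => ?_
      rw [Algebra.smul_def, Algebra.smul_def, map_mul, ← IsScalarTower.algebraMap_apply]
    · rw [Ideal.smul_top_eq_map, Submodule.restrictScalars_mem]
      exact hy

end Groth.Agent.EtLocalLib
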