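import Mathlib
import Groth.Prelude.Def_EtBaseX
import Groth.Agent.EtPtsLib.Support

/-!
# The étale local ring at a geometric point is strictly henselian
-/

set_option autoImplicit false
set_option backward.isDefEq.respectTransparency false
set_option backward.isDefEq.respectTransparency.types false
set_option linter.style.haveILetI false

universe u

open CategoryTheory CategoryTheory.Limits AlgebraicGeometry Opposite Polynomial
open Groth.Agent.EtPtsLib

noncomputable section

namespace Groth.Agent.EtLocalLib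

variable {X : Scheme.{u}} {Ω : Type u} [Field Ω] [IsSepClosed Ω] (ξ : Spec (CommRingCat.of Ω) ⟶ X)

/-- The germ of a function on an étale neighbourhood. -/
def germR (U : X.Etale) (l : (Scheme.pointSmallEtale ξ).fiber.obj U) :
    Γ(U.left, ⊤) →+* EtBase.etaleLocalRing ξ :=
  ((Scheme.pointSmallEtale ξ).toPresheafFiber U l (EtBase.OO X)).hom

/-- The value of a function at the geometric point. -/
def evalAt (U : X.Etale) (l : (Scheme.pointSmallEtale ξ).fiber.obj U) : Γ(U.left, ⊤) ⟶ CommRingCat.of Ω :=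
  (liftHom ξ l).appTop ≫ (Scheme.ΓSpecIso _).hom

theorem evalAt_map {U V : X.Etale} (g : V ⟶ U) (l : (Scheme.pointSmallEtale ξ).fiber.obj V) :
    g.left.appTop ≫ evalAt ξ V l = evalAt ξ U ((Scheme.pointSmallEtale ξ).fiber.map g l) := by
  rw [evalAt, evalAt, show liftHom ξ ((Scheme.pointSmallEtale ξ).fiber.map g l) = liftHom ξ l ≫ g.left from rfl,
    Scheme.Hom.comp_appTop, Category.assoc]

/-- The value at the geometric point of a germ. -/
def evR : EtBase.etaleLocalRing ξ ⟶ CommRingCat.of Ω :=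
  (Scheme.pointSmallEtale ξ).presheafFiberDesc (P := EtBase.OO X) (fun U l => evalAt ξ U l)
    (fun _ _ g l => evalAt_map ξ g l)

theorem evR_germR (U : X.Etale) (l : (Scheme.pointSmallEtale ξ).fiber.obj U) (s : Γ(U.left, ⊤)) :
    (evR ξ).hom (germR ξ U l s) = (evalAt ξ U l).hom s :=
  ConcreteCategory.congr_hom ((Scheme.pointSmallEtale ξ).toPresheafFiber_presheafFiberDesc (P := EtBase.OO X) (fun U l => evalAt ξ U l)
    (fun _ _ g l => evalAt_map ξ g l) U l) s

theorem germR_map {U V : X.Etale} (g : V ⟶ U) (l : (Scheme.pointSmallEtale ξ).fiber.obj V) (s : Γ(U.left, ⊤)) :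
    germR ξ V l (g.left.appTop.hom s) = germR ξ U ((Scheme.pointSmallEtale ξ).fiber.map g l) s :=
  (Scheme.pointSmallEtale ξ).toPresheafFiber_w_apply g l (EtBase.OO X) s

theorem germR_surjective (r : EtBase.etaleLocalRing ξ) : ∃ U l s, germR ξ U l s = r :=
  (Scheme.pointSmallEtale ξ).toPresheafFiber_jointly_surjective r

/-- An open subscheme of an étale scheme. -/
abbrev openSub (U : X.Etale) (O : U.left.Opens) : X.Etale :=
  MorphismProperty.Over.mk ⊤ (O.ι ≫ U.hom) (by haveI := U.prop; exact inferInstanceAs (Etale (O.ι ≫ U.hom)))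

/-- Shrinking a neighbourhood to an open containing the point. -/
theorem exists_openSub_lift (U : X.Etale) (l : (Scheme.pointSmallEtale ξ).fiber.obj U) (O : U.left.Opens)
    (h : liftHom ξ l default ∈ O) :
    ∃ (g : openSub U O ⟶ U) (l' : (Scheme.pointSmallEtale ξ).fiber.obj (openSub U O)),
      g.left = O.ι ∧ (Scheme.pointSmallEtale ξ).fiber.map g l' = l := by
  let g : openSub U O ⟶ U := MorphismProperty.Over.homMk O.ι rfl trivial
  obtain ⟨y, hy⟩ := exists_fiber_map_eq ξ g l (⟨_, h⟩ : O) rfl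
  exact ⟨g, y, rfl, hy⟩

theorem isUnit_germR {U : X.Etale} {l : (Scheme.pointSmallEtale ξ).fiber.obj U} {s : Γ(U.left, ⊤)}
    (h : (evalAt ξ U l).hom s ≠ 0) : IsUnit (germR ξ U l s) := by
  have hx : liftHom ξ l default ∈ U.left.basicOpen s := by
    show default ∈ liftHom ξ l ⁻¹ᵁ U.left.basicOpen s
    rw [Scheme.preimage_basicOpen_top, basicOpen_eq_of_affine' ((liftHom ξ l).appTop s)]
    show _ ∈ PrimeSpectrum.basicOpen _
    rw [PrimeSpectrum.mem_basicOpen]
    intro hmem
    refine h ?_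
    have hbot : (default : Spec (CommRingCat.of Ω)).asIdeal = ⊥ := (Ideal.eq_bot_or_top _).resolve_right (PrimeSpectrum.isPrime _).ne_top
    rw [hbot] at hmem
    exact hmem
  obtain ⟨g, l', hg, rfl⟩ := exists_openSub_lift ξ U l _ hx
  rw [← germR_map]
  refine IsUnit.map _ ?_
  show IsUnit (g.left.appTop.hom s)
  rw [hg]
  have hu := RingedSpace.isUnit_res_basicOpen U.left.toRingedSpace s
  have e : ((U.left.basicOpen s).ι.appTop ≫ (U.left.basicOpen s).topIso.hom).hom s =
      U.left.presheaf.map (homOfLE (U.left.basicOpen_le s)).op s := by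
    rw [Scheme.Opens.ι_appTop, Scheme.Opens.topIso_hom, ← Functor.map_comp]
    rfl
  refine (isUnit_map_iff (U.left.basicOpen s).topIso.commRingCatIsoToRingEquiv _).1 ?_
  show IsUnit (((U.left.basicOpen s).ι.appTop ≫ (U.left.basicOpen s).topIso.hom).hom s)
  rw [e]
  exact hu

theorem evR_eq_zero_iff (r : EtBase.etaleLocalRing ξ) : (evR ξ).hom r = 0 ↔ ¬ IsUnit r := by
  refine ⟨fun h hu => (hu.map (evR ξ).hom).ne_zero h, fun h => ?_⟩
  obtain ⟨U, l, s, rfl⟩ := germR_surjective ξ r
  by_contra hne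
  rw [evR_germR] at hne
  exact h (isUnit_germR ξ hne)

instance : IsLocalRing (EtBase.etaleLocalRing ξ) := by
  haveI : Nontrivial (EtBase.etaleLocalRing ξ) := (evR ξ).hom.domain_nontrivial
  refine IsLocalRing.of_nonunits_add fun a b ha hb => ?_
  rw [mem_nonunits_iff, ← evR_eq_zero_iff] at ha hb ⊢
  rw [map_add, ha, hb, add_zero]

theorem mem_maximalIdeal_iff (r : EtBase.etaleLocalRing ξ) :
    r ∈ IsLocalRing.maximalIdeal (EtBase.etaleLocalRing ξ) ↔ (evR ξ).hom r = 0 := by
  rw [IsLocalRing.mem_maximalIdeal, mem_nonunits_iff, evR_eq_zero_iff]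

/-- Finitely many germs are defined on a common affine neighbourhood. -/
theorem exists_common (t : ℕ → EtBase.etaleLocalRing ξ) (n : ℕ) :
    ∃ (U : X.Etale) (_ : IsAffine U.left) (l : (Scheme.pointSmallEtale ξ).fiber.obj U),
      ∀ i < n, t i ∈ Set.range (germR ξ U l) := by
  suffices h : ∃ (U : X.Etale) (l : (Scheme.pointSmallEtale ξ).fiber.obj U),
      ∀ i < n, t i ∈ Set.range (germR ξ U l) by
    obtain ⟨U, l, hl⟩ := h
    obtain ⟨O, hO, hx, -⟩ := exists_isAffineOpen_mem_and_subset (X := U.left) (U := ⊤)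
      (x := liftHom ξ l default) trivial
    obtain ⟨g, l', -, hgl⟩ := exists_openSub_lift ξ U l O hx
    refine ⟨openSub U O, (show IsAffine (O : Scheme.{u}) from hO), l', fun i hi => ?_⟩
    obtain ⟨s, hs⟩ := hl i hi
    exact ⟨g.left.appTop.hom s, by rw [germR_map, hgl, hs]⟩
  induction n with
  | zero =>
    obtain ⟨U, l, -⟩ := germR_surjective ξ 0
    exact ⟨U, l, fun i hi => absurd hi (Nat.not_lt_zero i)⟩
  | succ n ih =>
    obtain ⟨U, l, hl⟩ := ih
    obtain ⟨V, m, s, hs⟩ := germR_surjective ξ (t n)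
    haveI := (Scheme.pointSmallEtale ξ).isCofiltered
    obtain ⟨⟨W, w⟩, a, b, -⟩ := IsCofilteredOrEmpty.cone_objs
      (Functor.elementsMk (Scheme.pointSmallEtale ξ).fiber U l) (Functor.elementsMk (Scheme.pointSmallEtale ξ).fiber V m)
    refine ⟨W, w, fun i hi => ?_⟩
    rcases Nat.lt_succ_iff_lt_or_eq.1 hi with hi | rfl
    · obtain ⟨r, hr⟩ := hl i hi
      exact ⟨a.1.left.appTop.hom r, by rw [germR_map, a.2]; exact hr⟩
    · exact ⟨b.1.left.appTop.hom s, by rw [germR_map, b.2]; exact hs⟩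

/-- A monic polynomial over the étale local ring has a root over every simple root at the geometric point. -/
theorem exists_root (f : (EtBase.etaleLocalRing ξ)[X]) (hf : f.Monic) (a : Ω)
    (h0 : (f.map (evR ξ).hom).eval a = 0) (h1 : (derivative (f.map (evR ξ).hom)).eval a ≠ 0) :
    ∃ r, f.eval r = 0 ∧ (evR ξ).hom r = a := by
  obtain ⟨U, _, l, hl⟩ := exists_common ξ f.coeff (f.natDegree + 1)
  have hlift : f ∈ Polynomial.lifts (germR ξ U l) := by
    rw [Polynomial.lifts_iff_coeff_lifts]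
    intro i
    rcases Nat.lt_or_ge i (f.natDegree + 1) with hi | hi
    · exact hl i hi
    · exact ⟨0, by rw [map_zero, coeff_eq_zero_of_natDegree_lt (by omega)]⟩
  obtain ⟨f₀, hf₀, -, hm⟩ := Polynomial.lifts_and_natDegree_eq_and_monic hlift hf
  let P : StandardEtalePair Γ(U.left, ⊤) := ⟨f₀, hm, derivative f₀, 1, 0, 1, by simp⟩
  letI : Algebra Γ(U.left, ⊤) Ω := (evalAt ξ U l).hom.toAlgebra
  have hcomp : (evR ξ).hom.comp (germR ξ U l) = (evalAt ξ U l).hom := RingHom.ext (evR_germR ξ U l)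
  have hfe : f.map (evR ξ).hom = f₀.map (algebraMap Γ(U.left, ⊤) Ω) := by
    rw [← hf₀, Polynomial.map_map, hcomp]
    rfl
  have hmap : P.HasMap a := by
    refine ⟨?_, isUnit_iff_ne_zero.2 ?_⟩
    · show aeval a f₀ = 0
      rwa [← Polynomial.eval_map_algebraMap, ← hfe]
    · show aeval a (derivative f₀) ≠ 0
      rwa [← Polynomial.eval_map_algebraMap, ← derivative_map, ← hfe]
  let α : CommRingCat.of Γ(U.left, ⊤) ⟶ CommRingCat.of P.Ring := CommRingCat.ofHom (algebraMap _ _)
  let q : Spec (CommRingCat.of P.Ring) ⟶ U.left := Spec.map α ≫ U.left.isoSpec.inv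
  haveI : Etale (Spec.map α) := by
    rw [HasRingHomProperty.Spec_iff (P := @Etale)]
    exact RingHom.etale_algebraMap.2 inferInstance
  haveI : Etale U.hom := U.prop
  let U' : X.Etale := MorphismProperty.Over.mk ⊤ (q ≫ U.hom) (inferInstanceAs (Etale (q ≫ U.hom)))
  let g : U' ⟶ U := MorphismProperty.Over.homMk q rfl trivial
  let φ : CommRingCat.of P.Ring ⟶ CommRingCat.of Ω := CommRingCat.ofHom (P.lift a hmap).toRingHom
  have hαφ : α ≫ φ = evalAt ξ U l := by
    ext s
    exact (P.lift a hmap).commutes s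
  have hq : Spec.map φ ≫ q = liftHom ξ l := by
    rw [show q = Spec.map α ≫ U.left.isoSpec.inv from rfl, ← Category.assoc, ← Spec.map_comp, hαφ]
    rw [Iso.comp_inv_eq, Scheme.isoSpec_hom, Scheme.toSpecΓ_naturality, evalAt, Spec.map_comp,
      ← Scheme.isoSpec_Spec_hom, Scheme.isoSpec_hom]
  let l' : (Scheme.pointSmallEtale ξ).fiber.obj U' := Over.homMk (Spec.map φ) (by
    show Spec.map φ ≫ q ≫ U.hom = ξ
    rw [reassoc_of% hq]
    exact liftHom_comp ξ l)
  have hl' : (Scheme.pointSmallEtale ξ).fiber.map g l' = l := Over.OverMorphism.ext hq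
  let e : P.Ring →+* Γ(U'.left, ⊤) := (Scheme.ΓSpecIso (CommRingCat.of P.Ring)).inv.hom
  have hg : ∀ s, g.left.appTop.hom s = e (algebraMap Γ(U.left, ⊤) P.Ring s) := fun s => by
    show (Spec.map α ≫ U.left.isoSpec.inv).appTop.hom s = _
    have : (Spec.map α ≫ U.left.isoSpec.inv).appTop = α ≫ (Scheme.ΓSpecIso (CommRingCat.of P.Ring)).inv := by
      have hi : U.left.isoSpec.inv.appTop = (Scheme.ΓSpecIso Γ(U.left, ⊤)).inv := by
        rw [← Iso.hom_comp_eq_id, ← Scheme.toSpecΓ_appTop, ← Scheme.Hom.comp_appTop, Scheme.isoSpec_inv_toSpecΓ, Scheme.Hom.id_appTop]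
      rw [Scheme.Hom.comp_appTop, hi, Scheme.ΓSpecIso_inv_naturality]
      rfl
    rw [this]
    rfl
  refine ⟨germR ξ U' l' (e P.X), ?_, ?_⟩
  · have hc : germR ξ U l = ((germR ξ U' l').comp e).comp (algebraMap Γ(U.left, ⊤) P.Ring) := RingHom.ext fun s => by
      show _ = germR ξ U' l' (e (algebraMap Γ(U.left, ⊤) P.Ring s))
      rw [← hg, germR_map, hl']
    rw [← hf₀, Polynomial.eval_map, hc, show germR ξ U' l' (e P.X) = ((germR ξ U' l').comp e) P.X from rfl,
      ← Polynomial.hom_eval₂, show f₀.eval₂ (algebraMap Γ(U.left, ⊤) P.Ring) P.X = 0 from P.hasMap_X.1, map_zero]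
  · rw [evR_germR]
    show ((Spec.map φ).appTop ≫ (Scheme.ΓSpecIso _).hom).hom ((Scheme.ΓSpecIso (CommRingCat.of P.Ring)).inv.hom P.X) = a
    rw [Scheme.ΓSpecIso_naturality, CommRingCat.comp_apply, Iso.inv_hom_id_apply]
    exact P.lift_X a hmap

/-- The étale local ring at a geometric point is strictly henselian. -/
theorem isStrictlyHenselian : EtCoh.IsStrictlyHenselianLocalRing (EtBase.etaleLocalRing ξ) := by
  refine ⟨⟨fun f hf a₀ h₁ h₂ => ?_⟩, IsSepClosed.of_exists_root _ fun p hp hirr hs => ?_⟩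
  · rw [mem_maximalIdeal_iff] at h₁
    obtain ⟨r, hr, hr'⟩ := exists_root ξ f hf ((evR ξ).hom a₀)
      (by rw [Polynomial.eval_map_apply]; exact h₁)
      (by
        rw [derivative_map, Polynomial.eval_map_apply]
        exact (h₂.map (evR ξ).hom).ne_zero)
    exact ⟨r, hr, by rw [mem_maximalIdeal_iff, map_sub, hr', sub_self]⟩
  · let ι : IsLocalRing.ResidueField (EtBase.etaleLocalRing ξ) →+* Ω :=
      Ideal.Quotient.lift _ (evR ξ).hom fun r hr => (mem_maximalIdeal_iff ξ r).1 hr
    have hι : ι.comp (IsLocalRing.residue _) = (evR ξ).hom := rfl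
    obtain ⟨f, hf, -, hm⟩ := Polynomial.lifts_and_natDegree_eq_and_monic
      ((Polynomial.lifts_iff_coeff_lifts p).2 fun n => IsLocalRing.residue_surjective _) hp
    have hfe : f.map (evR ξ).hom = p.map ι := by rw [← hf, Polynomial.map_map, hι]
    obtain ⟨a, ha⟩ := IsSepClosed.exists_root (p.map ι)
      (by rw [Polynomial.degree_map]; exact (Polynomial.degree_pos_of_irreducible hirr).ne') ((separable_map _).2 hs)
    have hd : (derivative (p.map ι)).eval a ≠ 0 := by
      have := ((separable_map ι).2 hs).eval₂_derivative_ne_zero (RingHom.id Ω) (x := a) (by simpa using ha)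
      simpa using this
    obtain ⟨r, hr, -⟩ := exists_root ξ f hm a (hfe ▸ ha) (hfe ▸ hd)
    refine ⟨IsLocalRing.residue _ r, ?_⟩
    rw [← hf, Polynomial.eval_map_apply, hr, map_zero]

end Groth.Agent.EtLocalLib
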