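import Mathlib
import Groth.Agent.EtLocalLib.LocalEtale

/-!
# Local algebras as localizations of standard étale algebras
-/

open IsLocalRing

universe u

namespace Groth.Agent.EtLocalLib

variable {A B P T : Type u} [CommRing A] [CommRing B] [CommRing P] [CommRing T]
  [Algebra A B] [Algebra A P] [Algebra A T] [IsLocalRing B] [Algebra T B] [IsScalarTower A T B]

/-- If `B` is a local localization of `T` and `P → T` is surjective then a localization of `P` at a
prime surjects onto `B`, bijectively if `P → T` is injective. -/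
theorem exists_surjection_of_surjective (M : Submonoid T) [IsLocalization M B]
    (φ : P →ₐ[A] T) (hφ : Function.Surjective φ) :
    ∃ (𝔮 : Ideal P) (_ : 𝔮.IsPrime) (g : Localization.AtPrime 𝔮 →ₐ[A] B),
      Function.Surjective g ∧ (Function.Injective φ → Function.Injective g) := by
  let h : P →ₐ[A] B := (IsScalarTower.toAlgHom A T B).comp φ
  let 𝔮 : Ideal P := (maximalIdeal B).comap h.toRingHom
  have : 𝔮.IsPrime := Ideal.IsPrime.comap _
  have hu : ∀ y : 𝔮.primeCompl, IsUnit (h y) := fun y => by
    by_contra hc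
    exact y.2 (Ideal.mem_comap.mpr ((IsLocalRing.mem_maximalIdeal _).mpr hc))
  let g : Localization.AtPrime 𝔮 →ₐ[A] B :=
    IsLocalization.liftAlgHom (M := 𝔮.primeCompl) (f := h) hu
  have hg : ∀ (x : P) (y : 𝔮.primeCompl),
      g (IsLocalization.mk' _ x y) * h y = h x := by
    intro x y
    have h1 : ∀ z : P, g (algebraMap P (Localization.AtPrime 𝔮) z) = h z := fun z => by
      simp only [g, IsLocalization.liftAlgHom_apply, IsLocalization.lift_eq]
      rfl
    rw [← h1 (y : P), ← map_mul, IsLocalization.mk'_spec, h1]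
  refine ⟨𝔮, ‹_›, g, fun b => ?_, fun hinj => ?_⟩
  · obtain ⟨⟨a, m⟩, hb⟩ := IsLocalization.surj M b
    obtain ⟨x, hx⟩ := hφ a
    obtain ⟨y, hy⟩ := hφ m
    have hym : y ∈ 𝔮.primeCompl := by
      intro hc
      refine (IsLocalRing.mem_maximalIdeal _).mp (Ideal.mem_comap.mp hc) ?_
      change IsUnit (algebraMap T B (φ y))
      rw [hy]
      exact IsLocalization.map_units B m
    refine ⟨IsLocalization.mk' _ x ⟨y, hym⟩, ?_⟩
    have h2 := hg x ⟨y, hym⟩
    have h3 : h y = algebraMap T B m := congrArg (algebraMap T B) hy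
    have h4 : h x = algebraMap T B a := congrArg (algebraMap T B) hx
    rw [h3, h4, ← hb] at h2
    exact (IsLocalization.map_units B m).mul_left_injective h2
  · rw [injective_iff_map_eq_zero]
    intro z hz
    obtain ⟨x, y, rfl⟩ := IsLocalization.exists_mk'_eq 𝔮.primeCompl z
    have h2 := hg x y
    rw [hz, zero_mul] at h2
    obtain ⟨m, hm⟩ := (IsLocalization.map_eq_zero_iff M B (φ x)).mp h2.symm
    obtain ⟨c, hc⟩ := hφ m
    have hcm : c ∈ 𝔮.primeCompl := by
      intro hc'
      refine (IsLocalRing.mem_maximalIdeal _).mp (Ideal.mem_comap.mp hc') ?_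
      change IsUnit (algebraMap T B (φ c))
      rw [hc]
      exact IsLocalization.map_units B m
    rw [IsLocalization.mk'_eq_zero_iff]
    refine ⟨⟨c, hcm⟩, hinj ?_⟩
    rw [map_zero, map_mul, hc, hm]

/-- An essentially of finite type local algebra as localization of a finite type algebra at a
prime, compatibly with localizing away from an element outside that prime. -/
theorem exists_isLocalization_prime (A B : Type u) [CommRing A] [CommRing B] [Algebra A B]
    [IsLocalRing B] [Algebra.EssFiniteType A B] :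
    ∃ (S₀ : Subalgebra A B) (𝔮₀ : Ideal S₀) (_ : 𝔮₀.IsPrime),
      Algebra.FiniteType A S₀ ∧ IsLocalization.AtPrime B 𝔮₀ := by
  let S₀ := Algebra.EssFiniteType.subalgebra A B
  let 𝔮₀ : Ideal S₀ := (maximalIdeal B).comap (algebraMap S₀ B)
  refine ⟨S₀, 𝔮₀, Ideal.IsPrime.comap _, inferInstance, ?_⟩
  have h : Algebra.EssFiniteType.submonoid A B = 𝔮₀.primeCompl := by
    ext x
    change IsUnit (algebraMap S₀ B x) ↔ algebraMap S₀ B x ∉ maximalIdeal B
    exact IsLocalRing.notMem_maximalIdeal.symm
  show IsLocalization 𝔮₀.primeCompl B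
  rw [← h]
  infer_instance

/-- Formally unramified essentially finite type local algebras are quotients of localizations of
standard étale algebras. -/
theorem exists_standardEtale_surjection (A B : Type u) [CommRing A] [CommRing B] [Algebra A B]
    [IsLocalRing B] [Algebra.EssFiniteType A B] [Algebra.FormallyUnramified A B] :
    ∃ (Q : StandardEtalePair A) (𝔮 : Ideal Q.Ring) (_ : 𝔮.IsPrime)
      (g : Localization.AtPrime 𝔮 →ₐ[A] B), Function.Surjective g := by
  obtain ⟨S₀, 𝔮₀, h𝔮, hS, hB⟩ := exists_isLocalization_prime A B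
  let e : Localization.AtPrime 𝔮₀ ≃ₐ[A] B :=
    (IsLocalization.algEquiv 𝔮₀.primeCompl (Localization.AtPrime 𝔮₀) B).restrictScalars A
  have : Algebra.IsUnramifiedAt A 𝔮₀ := Algebra.FormallyUnramified.of_equiv e.symm
  obtain ⟨f, hf, Q, φ, hφ⟩ :=
    Algebra.IsUnramifiedAt.exists_hasStandardEtaleSurjectionOn (R := A) 𝔮₀
  let j : Localization.Away f →ₐ[S₀] B :=
    IsLocalization.liftAlgHom (M := Submonoid.powers f) (f := Algebra.ofId S₀ B) (by
      rintro ⟨_, n, rfl⟩
      simpa using (IsLocalization.map_units B (M := 𝔮₀.primeCompl) ⟨f, hf⟩).pow n)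
  algebraize [j.toRingHom]
  have : IsScalarTower S₀ (Localization.Away f) B := .of_algebraMap_eq' j.comp_algebraMap.symm
  have : IsScalarTower A (Localization.Away f) B := .to₁₃₄ _ S₀ _ _
  have : IsLocalization (𝔮₀.primeCompl.map (algebraMap S₀ (Localization.Away f))) B :=
    IsLocalization.isLocalization_of_submonoid_le _ _ _ _ (Submonoid.powers_le.mpr hf)
  obtain ⟨𝔮, h, g, hg, -⟩ := exists_surjection_of_surjective
    (𝔮₀.primeCompl.map (algebraMap S₀ (Localization.Away f))) φ hφ (B := B)
  exact ⟨Q, 𝔮, h, g, hg⟩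

/-- Flat formally unramified essentially finite type local algebras over a Noetherian local ring
are localizations of standard étale algebras. -/
theorem exists_standardEtale_equiv (A B : Type u) [CommRing A] [CommRing B] [Algebra A B]
    [IsLocalRing A] [IsLocalRing B] [IsLocalHom (algebraMap A B)] [IsNoetherianRing A]
    [Algebra.EssFiniteType A B] [Module.Flat A B] [Algebra.FormallyUnramified A B] :
    ∃ (Q : StandardEtalePair A) (𝔮 : Ideal Q.Ring) (_ : 𝔮.IsPrime),
      Nonempty (B ≃ₐ[A] Localization.AtPrime 𝔮) := by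
  obtain ⟨S₀, 𝔮₀, h𝔮, hS, hB⟩ := exists_isLocalization_prime A B
  have : Algebra.FinitePresentation A S₀ := Algebra.FinitePresentation.of_finiteType.mp hS
  have := formallyEtale_of_flat A B
  let e : Localization.AtPrime 𝔮₀ ≃ₐ[A] B :=
    (IsLocalization.algEquiv 𝔮₀.primeCompl (Localization.AtPrime 𝔮₀) B).restrictScalars A
  have : Algebra.IsEtaleAt A 𝔮₀ := Algebra.FormallyEtale.of_equiv e.symm
  obtain ⟨f, hf, ⟨⟨Q⟩⟩⟩ := Algebra.IsEtaleAt.exists_isStandardEtale (R := A) 𝔮₀
  let j : Localization.Away f →ₐ[S₀] B :=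
    IsLocalization.liftAlgHom (M := Submonoid.powers f) (f := Algebra.ofId S₀ B) (by
      rintro ⟨_, n, rfl⟩
      simpa using (IsLocalization.map_units B (M := 𝔮₀.primeCompl) ⟨f, hf⟩).pow n)
  algebraize [j.toRingHom]
  have : IsScalarTower S₀ (Localization.Away f) B := .of_algebraMap_eq' j.comp_algebraMap.symm
  have : IsScalarTower A (Localization.Away f) B := .to₁₃₄ _ S₀ _ _
  have : IsLocalization (𝔮₀.primeCompl.map (algebraMap S₀ (Localization.Away f))) B :=
    IsLocalization.isLocalization_of_submonoid_le _ _ _ _ (Submonoid.powers_le.mpr hf)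
  obtain ⟨𝔮, h, g, hg, hg'⟩ := exists_surjection_of_surjective
    (𝔮₀.primeCompl.map (algebraMap S₀ (Localization.Away f))) Q.equivRing.symm.toAlgHom
    Q.equivRing.symm.surjective (B := B)
  exact ⟨Q.P, 𝔮, h,
    ⟨(AlgEquiv.ofBijective g ⟨hg' Q.equivRing.symm.injective, hg⟩).symm⟩⟩

end Groth.Agent.EtLocalLib
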